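import Mathlib
import Groth.Agent.GenFree.Main
/-!
Finite type points of schemes.
-/
universe u
open AlgebraicGeometry CategoryTheory TopologicalSpace
open scoped TensorProduct
set_option backward.isDefEq.respectTransparency false

namespace Groth.Agent.FtPtsLib

/-- a domain with an injective finite type map to a field becomes a field after inverting one element -/
theorem exists_isField_away {R K : Type u} [CommRing R] [IsDomain R] [Field K] [Algebra R K]
    [Algebra.FiniteType R K] (hinj : Function.Injective (algebraMap R K)) :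
    ∃ g : R, g ≠ 0 ∧ ∀ q : Ideal R, q.IsPrime → g ∉ q → q = ⊥ := by
  obtain ⟨g, hg, hfree, -⟩ := Groth.Agent.GenFree.generic_freeness (R := R) (S := K) (M := K)
  refine ⟨g, hg, fun q hq hgq => ?_⟩
  by_contra hne
  obtain ⟨a, haq, ha0⟩ := Submodule.exists_mem_ne_zero_of_ne_bot hne
  have haK : algebraMap R K a ≠ 0 := (map_ne_zero_iff _ hinj).2 ha0
  let Rg := Localization.Away g
  haveI : Nontrivial (Rg ⊗[R] K) := by
    let e := IsLocalizedModule.isBaseChange (Submonoid.powers g) Rg
      (LocalizedModule.mkLinearMap (Submonoid.powers g) K)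
    haveI : Nontrivial (LocalizedModule (Submonoid.powers g) K) := by
      refine ⟨LocalizedModule.mkLinearMap _ K 1, 0, fun h => ?_⟩
      obtain ⟨⟨_, n, rfl⟩, hc⟩ :=
        (IsLocalizedModule.eq_zero_iff (Submonoid.powers g) (LocalizedModule.mkLinearMap _ K)).1 h
      change (g ^ n) • (1 : K) = 0 at hc
      rw [Algebra.smul_def, mul_one, map_pow] at hc
      exact pow_ne_zero n ((map_ne_zero_iff _ hinj).2 hg) hc
    exact e.equiv.toEquiv.nontrivial
  let aG : Rg := algebraMap R Rg a
  have hdiv : ∀ z : Rg ⊗[R] K, ∃ w, aG • w = z := by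
    intro z
    induction z using TensorProduct.induction_on with
    | zero => exact ⟨0, smul_zero _⟩
    | add x y hx hy =>
      obtain ⟨wx, rfl⟩ := hx
      obtain ⟨wy, rfl⟩ := hy
      exact ⟨wx + wy, smul_add _ _ _⟩
    | tmul r k =>
      refine ⟨r ⊗ₜ[R] ((algebraMap R K a)⁻¹ * k), ?_⟩
      rw [TensorProduct.smul_tmul', smul_eq_mul, show aG * r = a • r from (Algebra.smul_def a r).symm,
        TensorProduct.smul_tmul, Algebra.smul_def, ← mul_assoc, mul_inv_cancel₀ haK, one_mul]
  let b := Module.Free.chooseBasis Rg (Rg ⊗[R] K)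
  obtain ⟨i⟩ := b.index_nonempty
  obtain ⟨w, hw⟩ := hdiv (b i)
  have h1 := congrArg (fun v => b.repr v i) hw
  simp only [map_smul, Module.Basis.repr_self, Finsupp.smul_apply, Finsupp.single_eq_same, smul_eq_mul] at h1
  have hu : IsUnit aG := IsUnit.of_mul_eq_one _ h1
  have hdisj : Disjoint ((Submonoid.powers g : Submonoid R) : Set R) (q : Set R) := by
    rw [Set.disjoint_left]
    rintro _ ⟨n, rfl⟩ hn
    exact hgq (hq.mem_of_pow_mem n hn)
  have htop := IsLocalization.isPrime_of_isPrime_disjoint (Submonoid.powers g) Rg q hq hdisj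
  exact htop.ne_top (Ideal.eq_top_of_isUnit_mem _ (Ideal.mem_map_of_mem _ haq) hu)

variable {S : Scheme.{u}}

/-- a point closed in some affine open -/
def ClosedInAffine (s : S) : Prop :=
  ∃ U : S.Opens, IsAffineOpen U ∧ ∃ hs : s ∈ U, IsClosed ({⟨s, hs⟩} : Set ↥U)

theorem closedInAffine_of_specField (k : Type u) [Field k] (f : Spec (CommRingCat.of k) ⟶ S)
    [LocallyOfFiniteType f] : ClosedInAffine (f (IsLocalRing.closedPoint k)) := by
  let s := f (IsLocalRing.closedPoint k)
  obtain ⟨V, hV, hsV, -⟩ := exists_isAffineOpen_mem_and_subset (show s ∈ (⊤ : S.Opens) from trivial)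
  have htop : (⊤ : (Spec (CommRingCat.of k)).Opens) ≤ f ⁻¹ᵁ V := fun p _ => by
    rw [Scheme.Hom.mem_preimage, show p = IsLocalRing.closedPoint k from Subsingleton.elim _ _]
    exact hsV
  let φ := f.appLE V ⊤ htop
  have hft : φ.hom.FiniteType := LocallyOfFiniteType.finiteType_appLE f hV (isAffineOpen_top _) htop
  let ψ : Γ(S, V) →+* k := (Scheme.ΓSpecIso (CommRingCat.of k)).hom.hom.comp φ.hom
  have hψ : ψ.FiniteType := RingHom.FiniteType.comp_surjective hft
    (ConcreteCategory.bijective_of_isIso (Scheme.ΓSpecIso (CommRingCat.of k)).hom).2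
  let p := RingHom.ker ψ
  haveI hp : p.IsPrime := RingHom.ker_isPrime ψ
  let ψ' : (Γ(S, V) ⧸ p) →+* k := RingHom.kerLift ψ
  letI : Algebra (Γ(S, V) ⧸ p) k := ψ'.toAlgebra
  haveI : Algebra.FiniteType (Γ(S, V) ⧸ p) k := RingHom.FiniteType.of_comp_finiteType
    (f := Ideal.Quotient.mk p) (g := ψ') (by convert hψ using 1; exact RingHom.ext fun r => rfl)
  obtain ⟨g, hg, hmax⟩ := exists_isField_away (R := Γ(S, V) ⧸ p) (K := k) (RingHom.kerLift_injective ψ)
  obtain ⟨g', rfl⟩ := Ideal.Quotient.mk_surjective g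
  let P : PrimeSpectrum Γ(S, V) := ⟨p, hp⟩
  have hP : hV.fromSpec P = s := by
    have h := hV.SpecMap_appLE_fromSpec f (isAffineOpen_top _) htop
    have e : PrimeSpectrum.comap φ.hom ((isAffineOpen_top (Spec (CommRingCat.of k))).primeIdealOf
        ⟨IsLocalRing.closedPoint k, trivial⟩) = P := by
      refine PrimeSpectrum.ext ?_
      ext r
      change φ.hom r ∈ ((isAffineOpen_top (Spec (CommRingCat.of k))).primeIdealOf
        ⟨IsLocalRing.closedPoint k, trivial⟩).asIdeal ↔ ψ r = 0
      generalize ((isAffineOpen_top (Spec (CommRingCat.of k))).primeIdealOf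
        ⟨IsLocalRing.closedPoint k, trivial⟩) = Q
      let e := (Scheme.ΓSpecIso (CommRingCat.of k)).commRingCatIsoToRingEquiv
      change φ.hom r ∈ Q.asIdeal ↔ e (φ.hom r) = 0
      haveI := Q.2
      constructor
      · intro h
        by_contra hne
        exact Q.2.ne_top (Ideal.eq_top_of_isUnit_mem _ h ((MulEquiv.isUnit_map e).1 (IsUnit.mk0 _ hne)))
      · intro h
        rw [(map_eq_zero_iff e e.injective).1 h]
        exact zero_mem _
    rw [← e]
    exact (congr($(h).base _)).trans (congrArg f ((isAffineOpen_top _).fromSpec_primeIdealOf _))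
  have hgP : g' ∉ p := fun h => hg (Ideal.Quotient.eq_zero_iff_mem.2 h)
  have hsU : s ∈ S.basicOpen g' := by
    rw [← hP]
    have : P ∈ hV.fromSpec ⁻¹ᵁ S.basicOpen g' := by
      rw [IsAffineOpen.fromSpec_preimage_basicOpen]; exact hgP
    exact this
  refine ⟨S.basicOpen g', hV.basicOpen g', hsU, ?_⟩
  rw [← closure_subset_iff_isClosed]
  intro t ht
  rw [Set.mem_singleton_iff]
  refine Subtype.ext ?_
  have hst : s ⤳ t.1 := (specializes_iff_mem_closure.2 ht).map continuous_subtype_val
  have htV : t.1 ∈ V := S.basicOpen_le g' t.2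
  let Q := hV.primeIdealOf ⟨t.1, htV⟩
  have hPQ : P ⤳ Q := by
    have h' : hV.fromSpec P ⤳ hV.fromSpec Q := by
      rw [hP, hV.fromSpec_primeIdealOf]; exact hst
    exact hV.fromSpec.isOpenEmbedding.isInducing.specializes_iff.1 h'
  have hle : p ≤ Q.asIdeal := (PrimeSpectrum.le_iff_specializes P Q).2 hPQ
  have hgQ : g' ∉ Q.asIdeal := by
    have hmem : Q ∈ hV.fromSpec ⁻¹ᵁ S.basicOpen g' := by
      rw [Scheme.Hom.mem_preimage, hV.fromSpec_primeIdealOf]; exact t.2
    rw [IsAffineOpen.fromSpec_preimage_basicOpen] at hmem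
    exact hmem
  haveI := Q.2
  have hker : RingHom.ker (Ideal.Quotient.mk p) ≤ Q.asIdeal := by rw [Ideal.mk_ker]; exact hle
  have hqg : Ideal.Quotient.mk p g' ∉ Q.asIdeal.map (Ideal.Quotient.mk p) := by
    rw [Ideal.mem_quotient_iff_mem hle]; exact hgQ
  have hbot := hmax _ (Ideal.map_isPrime_of_surjective Ideal.Quotient.mk_surjective hker) hqg
  have hQP : Q.asIdeal ≤ p := fun r hr => Ideal.Quotient.eq_zero_iff_mem.1
    ((Submodule.mem_bot _).1 (hbot ▸ Ideal.mem_map_of_mem _ hr))
  have : Q = P := PrimeSpectrum.ext (le_antisymm hQP hle)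
  rw [← hV.fromSpec_primeIdealOf ⟨t.1, htV⟩]
  change hV.fromSpec Q = s
  rw [this, hP]

theorem lft_of_closedInAffine (s : S) (h : ClosedInAffine s) :
    LocallyOfFiniteType (S.fromSpecResidueField s) := by
  obtain ⟨U, hU, hs, hcl⟩ := h
  have hci : IsClosedImmersion ((U : Scheme.{u}).fromSpecResidueField ⟨s, hs⟩) :=
    isClosed_singleton_iff_isClosedImmersion.1 hcl
  have h1 := Scheme.Hom.SpecMap_residueFieldMap_fromSpecResidueField U.ι ⟨s, hs⟩
  have h2 : LocallyOfFiniteType (Spec.map (U.ι.residueFieldMap ⟨s, hs⟩) ≫ S.fromSpecResidueField s) := by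
    erw [h1]; infer_instance
  exact (MorphismProperty.cancel_left_of_respectsIso @LocallyOfFiniteType _ _).1 h2

theorem iff_closedInAffine (s : S) :
    LocallyOfFiniteType (S.fromSpecResidueField s) ↔ ClosedInAffine s := by
  refine ⟨fun h => ?_, lft_of_closedInAffine s⟩
  have h' := closedInAffine_of_specField (S.residueField s) (S.fromSpecResidueField s)
  exact (Scheme.fromSpecResidueField_apply s (IsLocalRing.closedPoint (S.residueField s))) ▸ h'

theorem image_mem {T : Scheme.{u}} (f : T ⟶ S) [LocallyOfFiniteType f] (t : T)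
    (ht : LocallyOfFiniteType (T.fromSpecResidueField t)) :
    LocallyOfFiniteType (S.fromSpecResidueField (f t)) := by
  have h := closedInAffine_of_specField (T.residueField t) (T.fromSpecResidueField t ≫ f)
  exact lft_of_closedInAffine _ (((Scheme.Hom.comp_apply _ _ _).trans
    (congrArg f (Scheme.fromSpecResidueField_apply t _))) ▸ h)

theorem exists_mem_of_isLocallyClosed (Z : Set S) (hZ : IsLocallyClosed Z) (hne : Z.Nonempty) :
    ∃ s ∈ Z, ClosedInAffine s := by
  obtain ⟨O, C, hO, hC, rfl⟩ := hZ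
  obtain ⟨z, hzO, hzC⟩ := hne
  obtain ⟨V, hV, hzV, hVO⟩ := exists_isAffineOpen_mem_and_subset (show z ∈ (⟨O, hO⟩ : S.Opens) from hzO)
  haveI : CompactSpace ↥V := isCompact_iff_compactSpace.1 hV.isCompact
  obtain ⟨a, ha, hcl⟩ := (hC.preimage (continuous_subtype_val (p := (· ∈ V)))).exists_closed_singleton
    ⟨⟨z, hzV⟩, hzC⟩
  exact ⟨a.1, ⟨hVO a.2, ha⟩, V, hV, a.2, hcl⟩

end Groth.Agent.FtPtsLib

namespace Groth.Agent.FtPtsLib

/-- generators of an artinian local algebra from generators modulo the maximal ideal -/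
theorem finiteType_of_residue {R A : Type u} [CommRing R] [CommRing A] [IsArtinianRing A]
    [IsLocalRing A] (ψ : R →+* A) (h : ((IsLocalRing.residue A).comp ψ).FiniteType) :
    ψ.FiniteType := by
  classical
  letI := ψ.toAlgebra
  let ρ : A →ₐ[R] IsLocalRing.ResidueField A :=
    IsScalarTower.toAlgHom R A (IsLocalRing.ResidueField A)
  have hft : Algebra.FiniteType R (IsLocalRing.ResidueField A) := by
    rw [← RingHom.finiteType_algebraMap]
    exact h
  obtain ⟨s, hs⟩ := hft.out
  choose lift hlift using IsLocalRing.residue_surjective (R := A)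
  obtain ⟨G, hG⟩ : (IsLocalRing.maximalIdeal A).FG := IsNoetherian.noetherian _
  let B := Algebra.adjoin R (((s.image lift) ∪ G : Finset A) : Set A)
  let m := IsLocalRing.maximalIdeal A
  have h0 : ∀ a : A, ∃ b ∈ B, a - b ∈ m := by
    intro a
    have hle : Algebra.adjoin R (s : Set (IsLocalRing.ResidueField A)) ≤ B.map ρ := by
      refine Algebra.adjoin_le fun z hz => ⟨lift z, Algebra.subset_adjoin (by
        simp only [Finset.coe_union, Finset.coe_image]
        exact Or.inl ⟨z, hz, rfl⟩), hlift z⟩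
    rw [hs] at hle
    obtain ⟨b, hb, hbr⟩ := hle (show IsLocalRing.residue A a ∈ (⊤ : Subalgebra R _) from trivial)
    refine ⟨b, hb, Ideal.Quotient.eq.1 ?_⟩
    exact hbr.symm
  have hG' : ∀ y ∈ m, ∃ b ∈ B, b ∈ m ∧ y - b ∈ m ^ 2 := by
    intro y hy
    change y ∈ IsLocalRing.maximalIdeal A at hy
    rw [← hG] at hy
    induction hy using Submodule.span_induction with
    | mem z hz =>
      exact ⟨z, Algebra.subset_adjoin (by simp [hz]), hG.le (Submodule.subset_span hz), by simp⟩
    | zero => exact ⟨0, zero_mem _, zero_mem _, by simp⟩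
    | add a b _ _ ha hb =>
      obtain ⟨c, hc, hcm, hac⟩ := ha
      obtain ⟨d, hd, hdm, hbd⟩ := hb
      exact ⟨c + d, add_mem hc hd, add_mem hcm hdm, by
        rw [add_sub_add_comm]; exact add_mem hac hbd⟩
    | smul a z _ hz =>
      obtain ⟨c, hc, hcm, hzc⟩ := hz
      obtain ⟨b, hb, hab⟩ := h0 a
      refine ⟨b * c, mul_mem hb hc, Ideal.mul_mem_left _ _ hcm, ?_⟩
      rw [smul_eq_mul, show a * z - b * c = a * (z - c) + (a - b) * c by ring, sq]
      exact add_mem (Ideal.mul_mem_left _ _ (sq m ▸ hzc)) (Ideal.mul_mem_mul hab hcm)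
  have hpow : ∀ k, ∀ y ∈ m ^ (k + 1), ∃ b ∈ B, y - b ∈ m ^ (k + 2) := by
    intro k
    induction k with
    | zero =>
      intro y hy
      obtain ⟨b, hb, -, hyb⟩ := hG' y (by simpa using hy)
      exact ⟨b, hb, hyb⟩
    | succ k ih =>
      intro y hy
      rw [pow_succ] at hy
      induction hy using Submodule.mul_induction_on' with
      | mem_mul_mem x hx z hz =>
        obtain ⟨b, hb, hxb⟩ := ih x hx
        obtain ⟨c, hc, hcm, hzc⟩ := hG' z hz
        refine ⟨b * c, mul_mem hb hc, ?_⟩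
        rw [show x * z - b * c = x * (z - c) + (x - b) * c by ring]
        refine add_mem ?_ ?_
        · have := Ideal.mul_mem_mul hx hzc
          rwa [← pow_add] at this
        · have := Ideal.mul_mem_mul hxb hcm
          rwa [← pow_succ] at this
      | add a _ b _ ha hb =>
        obtain ⟨c, hc, hac⟩ := ha
        obtain ⟨d, hd, hbd⟩ := hb
        exact ⟨c + d, add_mem hc hd, by rw [add_sub_add_comm]; exact add_mem hac hbd⟩
  have hall : ∀ k, ∀ a : A, ∃ b ∈ B, a - b ∈ m ^ (k + 1) := by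
    intro k
    induction k with
    | zero => intro a; simpa using h0 a
    | succ k ih =>
      intro a
      obtain ⟨b, hb, hab⟩ := ih a
      obtain ⟨c, hc, habc⟩ := hpow k _ hab
      exact ⟨b + c, add_mem hb hc, by rwa [← sub_sub]⟩
  obtain ⟨N, hN⟩ : IsNilpotent m := by
    have := IsArtinianRing.isNilpotent_jacobson_bot (R := A)
    rwa [IsLocalRing.jacobson_eq_maximalIdeal _ bot_ne_top] at this
  have : Algebra.FiniteType R A := by
    refine ⟨⟨(s.image lift) ∪ G, eq_top_iff.2 fun a _ => ?_⟩⟩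
    obtain ⟨b, hb, hab⟩ := hall N a
    rw [pow_succ, hN, Ideal.zero_eq_bot, Ideal.bot_mul, Submodule.mem_bot, sub_eq_zero] at hab
    exact hab ▸ hb
  exact RingHom.finiteType_algebraMap.2 this

theorem lft_of_residue {S : Scheme.{u}} (A : Type u) [CommRing A] [IsArtinianRing A] [IsLocalRing A]
    (f : Spec (CommRingCat.of A) ⟶ S)
    [hf : LocallyOfFiniteType (Spec.map (CommRingCat.ofHom (IsLocalRing.residue A)) ≫ f)] :
    LocallyOfFiniteType f := by
  let pt : Spec (CommRingCat.of A) := IsLocalRing.closedPoint A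
  obtain ⟨V, hV, hsV, -⟩ := exists_isAffineOpen_mem_and_subset (show f pt ∈ (⊤ : S.Opens) from trivial)
  have hr : Set.range f ⊆ Set.range V.ι := by
    rintro _ ⟨p, rfl⟩
    rw [Scheme.Opens.range_ι]
    have : p ⤳ pt := IsLocalRing.specializes_closedPoint (p : PrimeSpectrum A)
    exact (this.map f.continuous).mem_open V.2 hsV
  haveI : IsAffine V := hV
  let l := IsOpenImmersion.lift V.ι f hr
  obtain ⟨ψ, hψ⟩ := Spec.homEquiv.symm.surjective (l ≫ hV.isoSpec.hom)
  have hres : Spec.map (CommRingCat.ofHom (IsLocalRing.residue A)) ≫ f =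
      (Spec.map (CommRingCat.ofHom (IsLocalRing.residue A)) ≫ l) ≫ V.ι := by
    rw [Category.assoc, IsOpenImmersion.lift_fac]
  haveI : LocallyOfFiniteType ((Spec.map (CommRingCat.ofHom (IsLocalRing.residue A)) ≫ l) ≫ V.ι) := hres ▸ hf
  haveI : LocallyOfFiniteType (Spec.map (CommRingCat.ofHom (IsLocalRing.residue A)) ≫ l) :=
    locallyOfFiniteType_of_comp _ V.ι
  have h1 : LocallyOfFiniteType (Spec.map (CommRingCat.ofHom (IsLocalRing.residue A)) ≫ Spec.homEquiv.symm ψ) := by
    rw [hψ, ← Category.assoc]; infer_instance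
  have h2 : (ψ ≫ CommRingCat.ofHom (IsLocalRing.residue A)).hom.FiniteType :=
    (HasRingHomProperty.Spec_iff (P := @LocallyOfFiniteType)).1 (by rw [Spec.map_comp]; exact h1)
  have h3 : LocallyOfFiniteType (Spec.map ψ) :=
    (HasRingHomProperty.Spec_iff (P := @LocallyOfFiniteType)).2 (finiteType_of_residue ψ.hom h2)
  haveI : LocallyOfFiniteType (l ≫ hV.isoSpec.hom) := hψ ▸ h3
  have h4 : f = ((l ≫ hV.isoSpec.hom) ≫ hV.isoSpec.inv) ≫ V.ι := by
    simp [l, IsOpenImmersion.lift_fac]
  rw [h4]; infer_instance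

end Groth.Agent.FtPtsLib
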